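import Groth.Agent.EtAcyc.K602.FibModel
import Groth.Agent.FlatA.DimFin
import Mathlib.RingTheory.NoetherNormalization
import Mathlib.RingTheory.Localization.Finiteness
import Mathlib.RingTheory.KrullDimension.Polynomial

/-!
# The generic fibre of a finite cover of an affine line over an affine space
-/

set_option autoImplicit false
universe u

namespace K602.FibGen

attribute [local instance] Polynomial.algebra Polynomial.isLocalization

/-- The generic fibre of a finite cover of the affine line. -/
theorem generic_fibre (A₀ R k A : Type u) [CommRing A₀] [IsDomain A₀] [CommRing R] [Algebra A₀ R] [Field k]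
    [Algebra A₀ k] [IsFractionRing A₀ k] [CommRing A] [Algebra k A] [Algebra R A] [Algebra A₀ A]
    [IsScalarTower A₀ k A] [IsScalarTower A₀ R A]
    [IsLocalization ((nonZeroDivisors A₀).map (algebraMap A₀ R)) A] (hRA : Function.Injective (algebraMap R A))
    (g : Polynomial A₀ →ₐ[A₀] R) (hg : Function.Injective g) (hgf : g.toRingHom.Finite) :
    Algebra.FiniteType k A ∧ ringKrullDim A = 1 := by
  let _ : Algebra (Polynomial A₀) R := g.toRingHom.toAlgebra
  have _ : Module.Finite (Polynomial A₀) R := hgf
  let _ : Algebra (Polynomial A₀) A := ((algebraMap R A).comp g.toRingHom).toAlgebra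
  have _ : IsScalarTower (Polynomial A₀) R A := .of_algebraMap_eq' rfl
  let _ : Algebra (Polynomial k) A := (Polynomial.aeval (algebraMap R A (g Polynomial.X))).toRingHom.toAlgebra
  have _ : IsScalarTower k (Polynomial k) A := .of_algebraMap_eq' (by
    ext x
    change _ = Polynomial.aeval _ (Polynomial.C x)
    rw [Polynomial.aeval_C])
  have _ : IsScalarTower (Polynomial A₀) (Polynomial k) A := .of_algebraMap_eq' (by
    refine Polynomial.ringHom_ext (fun r => ?_) ?_
    · change algebraMap R A (g (Polynomial.C r)) =
        Polynomial.aeval _ (Polynomial.map (algebraMap A₀ k) (Polynomial.C r))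
      rw [Polynomial.map_C, Polynomial.aeval_C, ← IsScalarTower.algebraMap_apply A₀ k A,
        IsScalarTower.algebraMap_apply A₀ R A]
      congr 1
      exact g.commutes r
    · change algebraMap R A (g Polynomial.X) =
        Polynomial.aeval _ (Polynomial.map (algebraMap A₀ k) Polynomial.X)
      rw [Polynomial.map_X, Polynomial.aeval_X])
  have _ : IsLocalization (Algebra.algebraMapSubmonoid R ((nonZeroDivisors A₀).map Polynomial.C)) A := by
    have h1 : Algebra.algebraMapSubmonoid R ((nonZeroDivisors A₀).map Polynomial.C) =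
        (nonZeroDivisors A₀).map (algebraMap A₀ R) := by
      ext x
      constructor
      · rintro ⟨_, ⟨r, hr, rfl⟩, rfl⟩
        exact ⟨r, hr, (g.commutes r).symm⟩
      · rintro ⟨r, hr, rfl⟩
        exact ⟨_, ⟨r, hr, rfl⟩, g.commutes r⟩
    rw [h1]
    infer_instance
  have _ : IsLocalization ((nonZeroDivisors A₀).map Polynomial.C) (Polynomial k) := inferInstance
  have hfin : Module.Finite (Polynomial k) A :=
    Module.Finite.of_isLocalization (Polynomial A₀) R ((nonZeroDivisors A₀).map Polynomial.C)
  have hinj : Function.Injective (algebraMap (Polynomial k) A) := by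
    rw [injective_iff_map_eq_zero]
    intro p hp
    obtain ⟨⟨c, m⟩, hcm⟩ := IsLocalization.surj ((nonZeroDivisors A₀).map Polynomial.C) p
    have h1 : algebraMap (Polynomial A₀) A c = 0 := by
      rw [IsScalarTower.algebraMap_apply (Polynomial A₀) (Polynomial k) A, ← hcm, map_mul, hp, zero_mul]
    have h2 : c = 0 := by
      apply hg
      apply hRA
      rw [map_zero, map_zero]
      exact h1
    have h3 : IsUnit (algebraMap (Polynomial A₀) (Polynomial k) (m : Polynomial A₀)) :=
      IsLocalization.map_units _ m
    have h4 : p * algebraMap (Polynomial A₀) (Polynomial k) (m : Polynomial A₀) = 0 := by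
      rw [hcm, h2, map_zero]
    exact (h3.mul_left_eq_zero).mp h4
  refine ⟨Algebra.FiniteType.trans (S := Polynomial k) inferInstance inferInstance, ?_⟩
  rw [Groth.Agent.FlatA.DimFin.ringKrullDim_eq_of_isIntegral_of_injective (Polynomial k) A hinj,
    Polynomial.ringKrullDim_of_isNoetherianRing, ringKrullDim_eq_zero_of_field, zero_add]

/-- A domain of finite type and of dimension `d + 1` over a field is generically a curve over an affine space
of dimension `d`. -/
theorem exists_generic (K R : Type u) [Field K] [CommRing R] [IsDomain R] [Algebra K R] [Algebra.FiniteType K R]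
    (d : ℕ) (hd : ringKrullDim R = ((d + 1 : ℕ) : WithBot ℕ∞)) :
    ∃ (A₀ k A : Type u) (_ : CommRing A₀) (_ : Field k) (_ : CommRing A) (_ : Algebra K A₀)
      (_ : Algebra A₀ R) (_ : Algebra A₀ k) (_ : Algebra k A) (_ : Algebra R A) (_ : Algebra A₀ A),
      IsDomain A₀ ∧ IsDomain A ∧ IsScalarTower K A₀ R ∧ IsScalarTower A₀ k A ∧ IsScalarTower A₀ R A ∧
      IsFractionRing A₀ k ∧ IsLocalization ((nonZeroDivisors A₀).map (algebraMap A₀ R)) A ∧
      Algebra.FiniteType k A ∧ Algebra.FiniteType K A₀ ∧ Function.Injective (algebraMap A₀ R) ∧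
      ringKrullDim A₀ = (d : WithBot ℕ∞) ∧ ringKrullDim A = 1 := by
  obtain ⟨s, g₀, hg₀, hg₀f⟩ := exists_finite_inj_algHom_of_fg K R
  have hs : s = d + 1 := by
    have h1 : ringKrullDim R = (s : WithBot ℕ∞) := by
      algebraize [g₀.toRingHom]
      have : Module.Finite (MvPolynomial (Fin s) K) R := hg₀f
      rw [Groth.Agent.FlatA.DimFin.ringKrullDim_eq_of_isIntegral_of_injective (MvPolynomial (Fin s) K) R hg₀,
        Groth.Agent.FlatA.DimFin.ringKrullDim_mvPolynomial_fin]
    rw [hd] at h1
    exact_mod_cast h1.symm
  subst hs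
  let e := MvPolynomial.finSuccEquiv K d
  let g₁ : Polynomial (MvPolynomial (Fin d) K) →ₐ[K] R := g₀.comp e.symm.toAlgHom
  have hg₁ : Function.Injective g₁ := hg₀.comp e.symm.injective
  have hg₁f : g₁.toRingHom.Finite := by
    refine RingHom.Finite.comp (g := g₀.toRingHom) (f := e.symm.toAlgHom.toRingHom) hg₀f ?_
    exact RingHom.Finite.of_surjective _ e.symm.surjective
  let _ : Algebra (MvPolynomial (Fin d) K) R := (g₁.toRingHom.comp Polynomial.C).toAlgebra
  have _ : IsScalarTower K (MvPolynomial (Fin d) K) R := .of_algebraMap_eq' (by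
    ext x
    change _ = g₁ (Polynomial.C (MvPolynomial.C x))
    have h1 : (Polynomial.C (MvPolynomial.C x) : Polynomial (MvPolynomial (Fin d) K)) = algebraMap K _ x := rfl
    rw [h1, AlgHom.commutes])
  let g : Polynomial (MvPolynomial (Fin d) K) →ₐ[MvPolynomial (Fin d) K] R :=
    { g₁.toRingHom with commutes' := fun r => rfl }
  have hinj : Function.Injective (algebraMap (MvPolynomial (Fin d) K) R) := hg₁.comp Polynomial.C_injective
  have hle : Algebra.algebraMapSubmonoid R (nonZeroDivisors (MvPolynomial (Fin d) K)) ≤ nonZeroDivisors R := by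
    rintro _ ⟨r, hr, rfl⟩
    refine mem_nonZeroDivisors_of_ne_zero fun h => ?_
    exact nonZeroDivisors.ne_zero hr (hinj (by rw [h, map_zero]))
  have hloc : IsLocalization ((nonZeroDivisors (MvPolynomial (Fin d) K)).map
      (algebraMap (MvPolynomial (Fin d) K) R))
      (Localization (Algebra.algebraMapSubmonoid R (nonZeroDivisors (MvPolynomial (Fin d) K)))) :=
    inferInstanceAs (IsLocalization (Algebra.algebraMapSubmonoid R (nonZeroDivisors (MvPolynomial (Fin d) K))) _)
  obtain ⟨h1, h2⟩ := generic_fibre (MvPolynomial (Fin d) K) R (FractionRing (MvPolynomial (Fin d) K))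
    (Localization (Algebra.algebraMapSubmonoid R (nonZeroDivisors (MvPolynomial (Fin d) K))))
    (IsLocalization.injective _ hle) g hg₁ hg₁f
  refine ⟨MvPolynomial (Fin d) K, FractionRing (MvPolynomial (Fin d) K),
    Localization (Algebra.algebraMapSubmonoid R (nonZeroDivisors (MvPolynomial (Fin d) K))),
    inferInstance, inferInstance, inferInstance, inferInstance, inferInstance, inferInstance, inferInstance,
    inferInstance, inferInstance, inferInstance, IsLocalization.isDomain_localization hle, inferInstance,
    inferInstance, inferInstance, inferInstance, hloc, h1, inferInstance, hinj, ?_, h2⟩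
  exact Groth.Agent.FlatA.DimFin.ringKrullDim_mvPolynomial_fin K d

end K602.FibGen
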