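import Groth.Agent.EtAcyc.K602.FibGeo
import Groth.Agent.EtAcyc.K602.FibGen

/-!
# Fibration of an affine variety into curves, with étale boundary

The node `TREE-FIB`.
-/

set_option autoImplicit false
universe u

open CategoryTheory CategoryTheory.Limits AlgebraicGeometry

namespace K602.Fib

open K153.TreeCurve

/-- A curve over `A` with smooth generic fibre, and a divisor with étale generic fibre. -/
theorem preCurve (A Q k E : Type u) [CommRing A] [IsDomain A] [IsNoetherianRing A] [CommRing Q] [IsDomain Q]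
    [Field k] [CommRing E] [IsDomain E] [Algebra A Q] [Algebra.FiniteType A Q] [Algebra A k]
    [IsFractionRing A k] [Algebra Q E] [Algebra k E] (hinj : Function.Injective (algebraMap A Q))
    (hE : Algebra.Smooth k E)
    (hcomm : (algebraMap k E).comp (algebraMap A k) = (algebraMap Q E).comp (algebraMap A Q))
    [hloc : IsLocalization ((nonZeroDivisors A).map (algebraMap A Q)) E] (hdim : ringKrullDim E = 1) (b : Q)
    (hb : Algebra.Etale k (E ⧸ (Ideal.span {algebraMap Q E b}).radical)) :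
    ∃ U : (Spec (CommRingCat.of A)).Opens, PreCurve (Spec.map (CommRingCat.ofHom (algebraMap A Q)))
      (Spec.map (CommRingCat.ofHom (Ideal.Quotient.mk (Ideal.span {b}).radical))) U := by
  have hloc' := FibModel.isLocalization_quotient Q E ((nonZeroDivisors A).map (algebraMap A Q)) b
  let _ : Algebra (Q ⧸ (Ideal.span {b}).radical) (E ⧸ (Ideal.span {algebraMap Q E b}).radical) :=
    (Ideal.quotientMap (Ideal.span {algebraMap Q E b}).radical (algebraMap Q E)
      (show (Ideal.span {b}).radical ≤ (Ideal.span {algebraMap Q E b}).radical.comap (algebraMap Q E) by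
        rw [← Set.image_singleton, ← Ideal.map_span,
          ← IsLocalization.map_radical ((nonZeroDivisors A).map (algebraMap A Q)) E]
        exact Ideal.le_comap_map)).toAlgebra
  have hloc'' : IsLocalization ((nonZeroDivisors A).map (algebraMap A (Q ⧸ (Ideal.span {b}).radical)))
      (E ⧸ (Ideal.span {algebraMap Q E b}).radical) := by
    have h1 : (nonZeroDivisors A).map (algebraMap A (Q ⧸ (Ideal.span {b}).radical)) =
        ((nonZeroDivisors A).map (algebraMap A Q)).map (Ideal.Quotient.mk (Ideal.span {b}).radical) := by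
      ext x
      constructor
      · rintro ⟨r, hr, rfl⟩
        exact ⟨_, ⟨r, hr, rfl⟩, rfl⟩
      · rintro ⟨_, ⟨r, hr, rfl⟩, rfl⟩
        exact ⟨r, hr, rfl⟩
    rw [h1]
    exact hloc'
  obtain ⟨V₁, hV₁, hV₁'⟩ := FibGeo.exists_open_smooth A Q k E hE hcomm 1 (by rw [hdim]; rfl)
  obtain ⟨V₂, hV₂, hV₂'⟩ := FibGeo.exists_open_etale A (Q ⧸ (Ideal.span {b}).radical) k
    (E ⧸ (Ideal.span {algebraMap Q E b}).radical) hb (by
      have e1 : algebraMap k (E ⧸ (Ideal.span {algebraMap Q E b}).radical) =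
        (Ideal.Quotient.mk _).comp (algebraMap k E) := rfl
      have e2 : algebraMap A (Q ⧸ (Ideal.span {b}).radical) =
        (Ideal.Quotient.mk _).comp (algebraMap A Q) := rfl
      rw [e1, e2, RingHom.comp_assoc, hcomm]
      rfl)
  refine ⟨V₁ ⊓ V₂, ?_⟩
  have hcomp : Spec.map (CommRingCat.ofHom (Ideal.Quotient.mk (Ideal.span {b}).radical)) ≫
      Spec.map (CommRingCat.ofHom (algebraMap A Q)) =
      Spec.map (CommRingCat.ofHom (algebraMap A (Q ⧸ (Ideal.span {b}).radical))) := by
    rw [← Spec.map_comp, ← CommRingCat.ofHom_comp]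
  refine ⟨?_, ?_, ?_, (hV₁' _ inf_le_left).1, (hV₁' _ inf_le_left).2, ?_⟩
  · rw [isDominant_iff]
    refine (PrimeSpectrum.denseRange_comap_iff_ker_le_nilRadical (algebraMap A Q)).mpr ?_
    rw [(RingHom.injective_iff_ker_eq_bot _).mp hinj]
    exact bot_le
  · exact IsClosedImmersion.spec_of_surjective _ Ideal.Quotient.mk_surjective
  · exact nonempty_preirreducible_inter V₁.isOpen V₂.isOpen hV₁ hV₂
  · rw [hcomp]
    exact hV₂' _ inf_le_right

/-- `TREE-FIB` for rings. -/
theorem fib_ring (K R : Type u) [Field K] [CommRing R] [IsDomain R] [Algebra K R] [Algebra.FiniteType K R]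
    (d : ℕ) (hd : ringKrullDim R = ((d + 1 : ℕ) : WithBot ℕ∞)) (a : R) (ha : a ≠ 0) :
    ∃ (A₁ R₁ : Type u) (_ : CommRing A₁) (_ : CommRing R₁) (_ : Algebra K A₁) (_ : Algebra R R₁)
      (_ : Algebra A₁ R₁) (U : (Spec (CommRingCat.of A₁)).Opens), IsDomain A₁ ∧ IsDomain R₁ ∧
      Algebra.FiniteType K A₁ ∧ ringKrullDim A₁ = (d : WithBot ℕ∞) ∧ Module.Finite R R₁ ∧
      Function.Injective (algebraMap R R₁) ∧
      (algebraMap A₁ R₁).comp (algebraMap K A₁) = (algebraMap R R₁).comp (algebraMap K R) ∧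
      PreCurve (Spec.map (CommRingCat.ofHom (algebraMap A₁ R₁)))
        (Spec.map (CommRingCat.ofHom (Ideal.Quotient.mk (Ideal.span {algebraMap R R₁ a}).radical))) U := by
  obtain ⟨A₀, k, A, _, _, _, _, _, _, _, _, _, h1, h2, h3, h4, h5, h6, h7, h8, h9, h10, h11, h12⟩ :=
    FibGen.exists_generic K R d hd
  obtain ⟨A₁, R₁, k', D, _, _, _, _, _, _, _, _, _, _, g1, g2, g3, g4, g5, g6, g7, g8, g9, g10, g11, g12, g13,
    g14, g15⟩ := FibModel.exists_model A₀ R k A h10 h12.le a ha
  let _ : Algebra K A₁ := ((algebraMap A₀ A₁).comp (algebraMap K A₀)).toAlgebra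
  have _ : IsScalarTower K A₀ A₁ := .of_algebraMap_eq' rfl
  let _ : Algebra K R₁ := ((algebraMap R R₁).comp (algebraMap K R)).toAlgebra
  have _ : IsScalarTower K R R₁ := .of_algebraMap_eq' rfl
  have hK : (algebraMap A₁ R₁).comp (algebraMap K A₁) = (algebraMap R R₁).comp (algebraMap K R) := by
    change (algebraMap A₁ R₁).comp ((algebraMap A₀ A₁).comp (algebraMap K A₀)) = _
    rw [← RingHom.comp_assoc, g9, RingHom.comp_assoc, ← IsScalarTower.algebraMap_eq K A₀ R]
  have _ : IsScalarTower K A₁ R₁ := .of_algebraMap_eq' hK.symm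
  have f1 : Algebra.FiniteType K A₁ := Algebra.FiniteType.trans (S := A₀) inferInstance inferInstance
  have f2 : Algebra.FiniteType K R₁ := Algebra.FiniteType.trans (S := R) inferInstance inferInstance
  have f3 : Algebra.FiniteType A₁ R₁ := Algebra.FiniteType.of_restrictScalars_finiteType K A₁ R₁
  have f4 : IsNoetherianRing A₁ := Algebra.FiniteType.isNoetherianRing K A₁
  obtain ⟨U, hU⟩ := preCurve A₁ R₁ k' D g8 g13 g10 (g15.trans h12) (algebraMap R R₁ a) g14
  refine ⟨A₁, R₁, inferInstance, inferInstance, inferInstance, inferInstance, inferInstance, U, g1, g2, f1, ?_,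
    g6, g7, hK, hU⟩
  rw [Groth.Agent.FlatA.DimFin.ringKrullDim_eq_of_isIntegral_of_injective A₀ A₁ g5, h11]

/-- `TREE-FIB` for a scheme isomorphic to a spectrum. -/
theorem fib_of_iso {K : Type u} [Field K] {X : Scheme.{u}} (R : Type u) [CommRing R] [IsDomain R]
    (e : X ≅ Spec (CommRingCat.of R)) (p : X ⟶ Spec (CommRingCat.of K)) [LocallyOfFiniteType p] (d : ℕ)
    (hd : topologicalKrullDim X = ((d + 1 : ℕ) : WithBot ℕ∞)) (V : X.Opens) (hV : (V : Set X).Nonempty) :
    ∃ (B X' D : Scheme.{u}) (_ : IsIntegral B) (_ : IsAffine B) (_ : IsIntegral X')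
      (q : B ⟶ Spec (CommRingCat.of K)) (g : X' ⟶ X) (π : X' ⟶ B) (i : D ⟶ X') (U : B.Opens),
      LocallyOfFiniteType q ∧ topologicalKrullDim B = (d : WithBot ℕ∞) ∧ IsFinite g ∧ Surjective g ∧
      π ≫ q = g ≫ p ∧ PreCurve π i U ∧ ∀ x : X', π x ∈ U → x ∉ Set.range i → g x ∈ V := by
  have hq : Spec.map (Spec.preimage (e.inv ≫ p)) = e.inv ≫ p := Spec.map_preimage _
  let _ : Algebra K R := (Spec.preimage (e.inv ≫ p)).hom.toAlgebra
  have hq' : Spec.map (CommRingCat.ofHom (algebraMap K R)) = e.inv ≫ p := hq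
  have hft : Algebra.FiniteType K R := by
    have h1 : LocallyOfFiniteType (Spec.map (CommRingCat.ofHom (algebraMap K R))) := by
      rw [hq']
      infer_instance
    rw [HasRingHomProperty.Spec_iff (P := @LocallyOfFiniteType)] at h1
    exact h1
  have hdR : ringKrullDim R = ((d + 1 : ℕ) : WithBot ℕ∞) := by
    rw [← hd, ← PrimeSpectrum.topologicalKrullDim_eq_ringKrullDim]
    exact (IsHomeomorph.topologicalKrullDim_eq e.hom e.hom.homeomorph.isHomeomorph).symm
  obtain ⟨a, ha, haV⟩ : ∃ a : R, a ≠ 0 ∧ ∀ x : Spec (CommRingCat.of R),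
      x ∈ PrimeSpectrum.basicOpen a → e.inv x ∈ V := by
    obtain ⟨v, hv⟩ := hV
    have h1 : e.hom v ∈ (e.inv ⁻¹ᵁ V : (Spec (CommRingCat.of R)).Opens) := by
      change e.inv (e.hom v) ∈ V
      simpa using hv
    obtain ⟨_, ⟨_, ⟨a, rfl⟩, rfl⟩, ha, ha'⟩ :=
      PrimeSpectrum.isBasis_basic_opens.exists_subset_of_mem_open h1 (e.inv ⁻¹ᵁ V).isOpen
    refine ⟨a, ?_, fun x hx => ha' hx⟩
    rintro rfl
    exact ha (Ideal.zero_mem _)
  obtain ⟨A₁, R₁, _, _, _, _, _, U, h1, h2, h3, h4, h5, h6, h7, h8⟩ := fib_ring K R d hdR a ha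
  have hfin : IsFinite (Spec.map (CommRingCat.ofHom (algebraMap R R₁))) := by
    rw [IsFinite.SpecMap_iff]
    exact RingHom.finite_algebraMap.mpr h5
  have hsurj : Surjective (Spec.map (CommRingCat.ofHom (algebraMap R R₁))) :=
    ⟨Groth.Agent.FlatA.DimFin.comap_surjective_of_isIntegral R R₁ h6⟩
  refine ⟨Spec (CommRingCat.of A₁), Spec (CommRingCat.of R₁),
    Spec (CommRingCat.of (R₁ ⧸ (Ideal.span {algebraMap R R₁ a}).radical)), inferInstance, inferInstance,
    inferInstance, Spec.map (CommRingCat.ofHom (algebraMap K A₁)),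
    Spec.map (CommRingCat.ofHom (algebraMap R R₁)) ≫ e.inv,
    Spec.map (CommRingCat.ofHom (algebraMap A₁ R₁)),
    Spec.map (CommRingCat.ofHom (Ideal.Quotient.mk (Ideal.span {algebraMap R R₁ a}).radical)), U, ?_, ?_,
    inferInstance, inferInstance, ?_, h8, ?_⟩
  · rw [HasRingHomProperty.Spec_iff (P := @LocallyOfFiniteType)]
    exact RingHom.finiteType_algebraMap.mpr h3
  · rw [← h4]
    exact PrimeSpectrum.topologicalKrullDim_eq_ringKrullDim A₁
  · rw [Category.assoc, ← hq', ← Spec.map_comp, ← Spec.map_comp, ← CommRingCat.ofHom_comp,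
      ← CommRingCat.ofHom_comp, h7]
  · intro x _ hx
    rw [Scheme.Hom.comp_apply]
    apply haV
    intro hax
    apply hx
    have h9 : (Ideal.span {algebraMap R R₁ a}).radical ≤ x.asIdeal := by
      rw [x.isPrime.radical_le_iff, Ideal.span_singleton_le_iff_mem]
      exact hax
    have h10 : x ∈ Set.range (PrimeSpectrum.comap
        (Ideal.Quotient.mk (Ideal.span {algebraMap R R₁ a}).radical)) := by
      rw [range_comap_of_surjective _ _ Ideal.Quotient.mk_surjective, Ideal.mk_ker]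
      exact h9
    exact h10

/-- `TREE-FIB`. An affine variety is, up to a finite cover, a relative curve over an affine variety, smooth over a
nonempty open `U`, with an étale multisection over `U` containing, over `U`, the complement of a given nonempty
open. -/
theorem fib {K : Type u} [Field K] [IsAlgClosed K] {X : Scheme.{u}} [IsIntegral X] [IsAffine X]
    (p : X ⟶ Spec (CommRingCat.of K)) [LocallyOfFiniteType p] (d : ℕ)
    (hd : topologicalKrullDim X = ((d + 1 : ℕ) : WithBot ℕ∞)) (V : X.Opens) (hV : (V : Set X).Nonempty) :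
    ∃ (B X' D : Scheme.{u}) (_ : IsIntegral B) (_ : IsAffine B) (_ : IsIntegral X')
      (q : B ⟶ Spec (CommRingCat.of K)) (g : X' ⟶ X) (π : X' ⟶ B) (i : D ⟶ X') (U : B.Opens),
      LocallyOfFiniteType q ∧ topologicalKrullDim B = (d : WithBot ℕ∞) ∧ IsFinite g ∧ Surjective g ∧
      π ≫ q = g ≫ p ∧ PreCurve π i U ∧ ∀ x : X', π x ∈ U → x ∉ Set.range i → g x ∈ V :=
  fib_of_iso (X.presheaf.obj (Opposite.op ⊤)) X.isoSpec p d hd V hV

end K602.Fib

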