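import Groth.Agent.Unram17.K653.NormMain
import Groth.Agent.S2514
import Groth.Agent.FlatA.DimFin
import Groth.Agent.Ega43.SmoothReduced
import Mathlib.FieldTheory.PurelyInseparable.PerfectClosure
import Mathlib.RingTheory.Etale.Field
import Mathlib.RingTheory.Etale.Descent
import Mathlib.RingTheory.Etale.Pi
import Mathlib.RingTheory.Jacobson.Artinian
import Mathlib.RingTheory.KrullDimension.NonZeroDivisors

/-!
# A smooth curve with an étale divisor after a finite extension

`k` a field, `A` a domain of finite type over `k` of dimension `≤ 1`, `a ≠ 0` in `A`. After a finite purely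
inseparable extension `k'` of `k` there is a finite injective `A → D`, `D` a domain smooth over `k'`, with
`D / √(a)` étale over `k'`.
-/

set_option autoImplicit false
universe u

open scoped TensorProduct

namespace K602.FibAlg

/-- A finite reduced algebra over an algebraically closed field is étale. -/
theorem formallyEtale_of_isAlgClosed (k Z : Type u) [Field k] [IsAlgClosed k] [CommRing Z] [Algebra k Z]
    [Module.Finite k Z] [IsReduced Z] : Algebra.FormallyEtale k Z := by
  have hart : IsArtinianRing Z := isArtinian_of_tower k inferInstance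
  let e : Z ≃ₐ[k] (∀ I : MaximalSpectrum Z, Z ⧸ I.asIdeal) :=
    (IsArtinianRing.equivPi Z).restrictScalars k
  let _ (I : MaximalSpectrum Z) : Field (Z ⧸ I.asIdeal) := Ideal.Quotient.field I.asIdeal
  rw [Algebra.FormallyEtale.iff_of_equiv e, Algebra.FormallyEtale.pi_iff]
  intro I
  have h0 : Algebra.IsAlgebraic k (Z ⧸ I.asIdeal) := Algebra.IsAlgebraic.of_finite k _
  have h1 : Algebra.IsSeparable k (Z ⧸ I.asIdeal) := inferInstance
  exact Algebra.FormallyEtale.of_isSeparable k (Z ⧸ I.asIdeal)

/-- A finite geometrically reduced algebra over a field is étale. -/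
theorem etale_of_isGeometricallyReduced (k Z : Type u) [Field k] [CommRing Z] [Algebra k Z]
    [Module.Finite k Z] [h : Algebra.IsGeometricallyReduced k Z] : Algebra.Etale k Z := by
  have h1 : IsReduced (AlgebraicClosure k ⊗[k] Z) :=
    (Algebra.isGeometricallyReduced_field_iff k Z).mp h
  have h2 : Algebra.FormallyEtale (AlgebraicClosure k) (AlgebraicClosure k ⊗[k] Z) :=
    formallyEtale_of_isAlgClosed _ _
  have h3 : Algebra.FiniteType (AlgebraicClosure k) (AlgebraicClosure k ⊗[k] Z) := inferInstance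
  have h4 : Algebra.FinitePresentation (AlgebraicClosure k) (AlgebraicClosure k ⊗[k] Z) :=
    Algebra.FinitePresentation.of_finiteType.mp h3
  have h5 : Algebra.Etale (AlgebraicClosure k) (AlgebraicClosure k ⊗[k] Z) := ⟨h2, h4⟩
  exact Algebra.Etale.of_etale_tensorProduct_of_faithfullyFlat (AlgebraicClosure k)

/-- The quotient of a one-dimensional domain of finite type by an ideal containing a nonzero element is
finite over the field. -/
theorem finite_quotient (k D : Type u) [Field k] [CommRing D] [IsDomain D] [Algebra k D]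
    [Algebra.FiniteType k D] (hdim : ringKrullDim D ≤ 1) (b : D) (hb : b ≠ 0) (J : Ideal D) (hJ : b ∈ J) :
    Module.Finite k (D ⧸ J) := by
  have h1 : ringKrullDim (D ⧸ Ideal.span {b}) + 1 ≤ ringKrullDim D :=
    ringKrullDim_quotient_succ_le_of_nonZeroDivisor (mem_nonZeroDivisors_of_ne_zero hb)
  have h2 : ringKrullDim (D ⧸ J) ≤ ringKrullDim (D ⧸ Ideal.span {b}) := by
    have hle : Ideal.span {b} ≤ J := by rwa [Ideal.span_singleton_le_iff_mem]
    exact ringKrullDim_le_of_surjective (Ideal.Quotient.factor hle) (Ideal.Quotient.factor_surjective hle)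
  have h3 : ringKrullDim (D ⧸ J) ≤ 0 := by
    have h4 : ringKrullDim (D ⧸ J) + 1 ≤ 0 + 1 := by
      rw [zero_add]
      exact (add_le_add_left h2 1).trans (h1.trans hdim)
    exact ENat.WithBot.add_le_add_one_right_iff.mp h4
  have h6 : Ring.KrullDimLE 0 (D ⧸ J) := by
    rw [Ring.KrullDimLE, Order.krullDimLE_iff]
    exact h3
  exact (Module.finite_iff_krullDimLE_zero k (D ⧸ J)).mpr h6

/-- The normalization of a domain of finite type over a field. -/
theorem exists_norm (k' T : Type u) [Field k'] [CommRing T] [IsDomain T] [Algebra k' T]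
    [Algebra.FiniteType k' T] :
    ∃ (F D : Type u) (_ : Field F) (_ : Algebra T F) (_ : IsFractionRing T F) (_ : CommRing D)
      (_ : Algebra T D) (_ : Algebra k' D) (_ : IsScalarTower k' T D) (_ : Algebra D F)
      (_ : IsScalarTower T D F) (_ : IsIntegralClosure D T F),
      IsDomain D ∧ Module.Finite T D ∧ Function.Injective (algebraMap T D) := by
  have hDfin : Module.Finite T (integralClosure T (FractionRing T)) :=
    Groth.Agent.VarietyB.FinNormField.finite_integralClosure_of_finiteType k' T (FractionRing T)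
      (FractionRing T)
  refine ⟨FractionRing T, integralClosure T (FractionRing T), inferInstance, inferInstance, inferInstance,
    inferInstance, inferInstance, inferInstance, inferInstance, inferInstance, inferInstance, inferInstance,
    inferInstance, hDfin, ?_⟩
  exact FaithfulSMul.algebraMap_injective T _

/-- First step, with the field and the reduction as variables. -/
theorem exists_smooth_aux (k A k' T : Type u) [Field k] [CommRing A] [Algebra k A] [Field k'] [Algebra k k']
    [CommRing T] [IsDomain T] [Algebra k' T] [Algebra.FiniteType k' T] (φ : A →+* T) (hφ : φ.Finite)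
    (hφ' : Function.Injective φ) (hφ'' : (algebraMap k' T).comp (algebraMap k k') = φ.comp (algebraMap k A))
    (hs : ∀ (D K' : Type u) [CommRing D] [Algebra T D] [Algebra k' D] [IsScalarTower k' T D]
        [Field K'] [Algebra T K'] [IsFractionRing T K'] [Algebra D K'] [IsScalarTower T D K']
        [IsIntegralClosure D T K'], Algebra.Smooth k' D) :
    ∃ (D : Type u) (_ : CommRing D) (_ : Algebra k' D) (φ : A →+* D), IsDomain D ∧ Algebra.Smooth k' D ∧
      φ.Finite ∧ Function.Injective φ ∧ (algebraMap k' D).comp (algebraMap k k') = φ.comp (algebraMap k A) := by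
  obtain ⟨F, D, _, _, _, _, _, _, _, _, _, _, h1, h2, h3⟩ := exists_norm k' T
  refine ⟨D, inferInstance, inferInstance, (algebraMap T D).comp φ, h1, hs D F,
    (RingHom.finite_algebraMap.mpr h2).comp hφ, h3.comp hφ', ?_⟩
  rw [IsScalarTower.algebraMap_eq k' T D, RingHom.comp_assoc, hφ'', RingHom.comp_assoc]

/-- First step for a given extension. -/
theorem exists_smooth_aux2 (k A k' : Type u) [Field k] [CommRing A] [IsDomain A] [Algebra k A]
    [Algebra.FiniteType k A] [Field k'] [Algebra k k'] [FiniteDimensional k k'] [IsPurelyInseparable k k']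
    (hs : ∀ (T : Type u) [CommRing T] [IsDomain T] [Algebra k' T] (π : k' ⊗[k] A →ₐ[k'] T),
        Function.Surjective π → (∀ z, π z = 0 → IsNilpotent z) →
      ∀ (D K' : Type u) [CommRing D] [Algebra T D] [Algebra k' D] [IsScalarTower k' T D]
        [Field K'] [Algebra T K'] [IsFractionRing T K'] [Algebra D K'] [IsScalarTower T D K']
        [IsIntegralClosure D T K'], Algebra.Smooth k' D) :
    ∃ (D : Type u) (_ : CommRing D) (_ : Algebra k' D) (φ : A →+* D), IsDomain D ∧ Algebra.Smooth k' D ∧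
      φ.Finite ∧ Function.Injective φ ∧ (algebraMap k' D).comp (algebraMap k k') = φ.comp (algebraMap k A) := by
  have hT : IsDomain (K148.RedExt.Red k k' A) := K148.RedExt.isDomain_red k k' A
  refine exists_smooth_aux k A k' (K148.RedExt.Red k k' A)
    (K148.RedExt.toRed k k' A) (K148.RedExt.finite_toRed k k' A) (K148.RedExt.injective_toRed k k' A) ?_
    (hs _ (Ideal.Quotient.mkₐ k' (nilradical (k' ⊗[k] A))) Ideal.Quotient.mk_surjective
      (fun z hz => mem_nilradical.mp (Ideal.Quotient.eq_zero_iff_mem.mp hz)))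
  ext c
  change Ideal.Quotient.mk _ (algebraMap k k' c ⊗ₜ[k] (1 : A)) = Ideal.Quotient.mk _ (1 ⊗ₜ[k] algebraMap k A c)
  rw [Algebra.algebraMap_eq_smul_one, Algebra.algebraMap_eq_smul_one, TensorProduct.smul_tmul]

/-- First step, with the perfect field as a variable. -/
theorem exists_smooth_aux3 (k A P : Type u) [Field k] [CommRing A] [IsDomain A] [Algebra k A]
    [Algebra.FiniteType k A] (hdim : ringKrullDim A ≤ 1) [Field P] [Algebra k P] [IsPurelyInseparable k P]
    [PerfectField P] :
    ∃ (k' : Type u) (_ : Field k') (_ : Algebra k k') (D : Type u) (_ : CommRing D) (_ : Algebra k' D)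
      (φ : A →+* D), IsDomain D ∧ FiniteDimensional k k' ∧ Algebra.Smooth k' D ∧ φ.Finite ∧
      Function.Injective φ ∧ (algebraMap k' D).comp (algebraMap k k') = φ.comp (algebraMap k A) := by
  classical
  obtain ⟨s, hs⟩ := K653.NormMain.exists_finset k P A hdim
  have hfin : FiniteDimensional k (IntermediateField.adjoin k (s : Set P)) :=
    IntermediateField.finiteDimensional_adjoin fun x _ => Algebra.IsIntegral.isIntegral x
  have hpi : IsPurelyInseparable k (IntermediateField.adjoin k (s : Set P)) :=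
    IsPurelyInseparable.tower_bot k _ P
  obtain ⟨D, i1, i2, φ, h1, h2, h3, h4, h5⟩ := exists_smooth_aux2 k A
    (IntermediateField.adjoin k (s : Set P))
    (hs _ (fun x hx => ⟨⟨x, IntermediateField.subset_adjoin k _ hx⟩, rfl⟩))
  exact ⟨_, inferInstance, inferInstance, D, i1, i2, φ, h1, hfin, h2, h3, h4, h5⟩

/-- First step: after a finite purely inseparable extension the normalization is smooth. -/
theorem exists_smooth (k A : Type u) [Field k] [CommRing A] [IsDomain A] [Algebra k A]
    [Algebra.FiniteType k A] (hdim : ringKrullDim A ≤ 1) :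
    ∃ (k' : Type u) (_ : Field k') (_ : Algebra k k') (D : Type u) (_ : CommRing D) (_ : Algebra k' D)
      (φ : A →+* D), IsDomain D ∧ FiniteDimensional k k' ∧ Algebra.Smooth k' D ∧ φ.Finite ∧
      Function.Injective φ ∧ (algebraMap k' D).comp (algebraMap k k') = φ.comp (algebraMap k A) :=
  exists_smooth_aux3 k A (perfectClosure k (AlgebraicClosure k)) hdim

theorem etale_quotient (k A Z : Type u) [Field k] [CommRing A] [CommRing Z] [Algebra k A] [Algebra k Z]
    [Algebra.Etale k Z] (q : A →ₐ[k] Z) (hq : Function.Surjective q) (I : Ideal A)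
    (hI : RingHom.ker q = I) : Algebra.Etale k (A ⧸ I) := by
  subst hI
  exact Algebra.Etale.of_equiv (A := Z) (B := A ⧸ RingHom.ker q)
    (Ideal.quotientKerAlgEquivOfSurjective hq).symm

theorem finite_includeRight (k k' A : Type u) [Field k] [Field k'] [CommRing A] [Algebra k k'] [Algebra k A]
    [Module.Finite k k'] :
    (Algebra.TensorProduct.includeRight : A →ₐ[k] k' ⊗[k] A).toRingHom.Finite := by
  have h1 : (algebraMap A (A ⊗[k] k')).Finite := by
    rw [RingHom.finite_algebraMap]
    infer_instance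
  let e : (A ⊗[k] k') ≃+* (k' ⊗[k] A) := (Algebra.TensorProduct.comm k A k').toRingEquiv
  have h3 : (Algebra.TensorProduct.includeRight : A →ₐ[k] k' ⊗[k] A).toRingHom =
      (e : (A ⊗[k] k') →+* (k' ⊗[k] A)).comp (algebraMap A (A ⊗[k] k')) := by
    ext a
    change (1 : k') ⊗ₜ[k] a = Algebra.TensorProduct.comm k A k' (a ⊗ₜ 1)
    rw [Algebra.TensorProduct.comm_tmul]
  rw [h3]
  exact (RingHom.Finite.of_surjective _ e.surjective).comp h1

/-- The reduced fibre after an extension of the field is the reduced quotient of the base change. -/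
theorem ker_eq (k₁ k₂ D : Type u) [Field k₁] [Field k₂] [Algebra k₁ k₂] [CommRing D] [Algebra k₁ D] (b : D) :
    RingHom.ker ((Ideal.Quotient.mkₐ k₂ (nilradical (k₂ ⊗[k₁] (D ⧸ (Ideal.span {b}).radical)))).comp
      (Algebra.TensorProduct.map (AlgHom.id k₂ k₂) (Ideal.Quotient.mkₐ k₁ (Ideal.span {b}).radical))) =
      (Ideal.span {(1 : k₂) ⊗ₜ[k₁] b}).radical := by
  have h1 : ∀ z : k₂ ⊗[k₁] D, Algebra.TensorProduct.map (AlgHom.id k₂ k₂)
      (Ideal.Quotient.mkₐ k₁ (Ideal.span {b}).radical) z = 0 ↔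
      z ∈ (Ideal.span {b}).radical.map
        (Algebra.TensorProduct.includeRight : D →ₐ[k₁] k₂ ⊗[k₁] D) := by
    intro z
    have h2 := Algebra.TensorProduct.lTensor_ker (A := k₂) (Ideal.Quotient.mkₐ k₁ (Ideal.span {b}).radical)
      (Ideal.Quotient.mkₐ_surjective _ _)
    have h3 : RingHom.ker (Ideal.Quotient.mkₐ k₁ (Ideal.span {b}).radical) = (Ideal.span {b}).radical := by
      ext x
      rw [RingHom.mem_ker, Ideal.Quotient.mkₐ_eq_mk, Ideal.Quotient.eq_zero_iff_mem]
    rw [h3] at h2
    rw [← h2]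
    rfl
  ext z
  rw [RingHom.mem_ker, AlgHom.comp_apply, Ideal.Quotient.mkₐ_eq_mk, Ideal.Quotient.eq_zero_iff_mem, mem_nilradical]
  constructor
  · rintro ⟨n, hn⟩
    rw [← map_pow, h1] at hn
    have hle : (Ideal.span {b}).radical.map (Algebra.TensorProduct.includeRight : D →ₐ[k₁] k₂ ⊗[k₁] D) ≤
        (Ideal.span {(1 : k₂) ⊗ₜ[k₁] b}).radical := by
      rw [Ideal.map_le_iff_le_comap]
      rintro x ⟨m, hm⟩
      refine ⟨m, ?_⟩
      rw [Ideal.mem_span_singleton] at hm ⊢
      obtain ⟨c, hc⟩ := hm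
      refine ⟨1 ⊗ₜ c, ?_⟩
      rw [← map_pow, hc, Algebra.TensorProduct.tmul_mul_tmul, one_mul]
      rfl
    obtain ⟨m, hm⟩ := hle hn
    exact ⟨n * m, by rwa [pow_mul]⟩
  · rintro ⟨n, hn⟩
    refine ⟨n, ?_⟩
    rw [← map_pow, h1]
    rw [Ideal.mem_span_singleton] at hn
    obtain ⟨c, hc⟩ := hn
    rw [hc]
    refine Ideal.mul_mem_right _ _ (Ideal.mem_map_of_mem _ (Ideal.le_radical ?_))
    exact Ideal.mem_span_singleton_self b

theorem map_surjective (k₁ k₂ D E : Type u) [Field k₁] [Field k₂] [Algebra k₁ k₂] [CommRing D] [Algebra k₁ D]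
    [CommRing E] [Algebra k₁ E] (q : D →ₐ[k₁] E) (hq : Function.Surjective q) :
    Function.Surjective (Algebra.TensorProduct.map (AlgHom.id k₂ k₂) q) := by
  intro z
  induction z with
  | zero => exact ⟨0, map_zero _⟩
  | add x y hx hy =>
    obtain ⟨x, rfl⟩ := hx
    obtain ⟨y, rfl⟩ := hy
    exact ⟨x + y, map_add _ _ _⟩
  | tmul c e =>
    obtain ⟨d, rfl⟩ := hq e
    exact ⟨c ⊗ₜ d, rfl⟩

theorem etale_quotient₂ (k A W : Type u) [Field k] [CommRing A] [CommRing W] [Algebra k A] [Algebra k W]
    (f : A →ₐ[k] W) (hf : Function.Surjective f) (N : Ideal W) (h : Algebra.Etale k (W ⧸ N)) (I : Ideal A)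
    (hI : RingHom.ker ((Ideal.Quotient.mkₐ k N).comp f) = I) : Algebra.Etale k (A ⧸ I) :=
  etale_quotient k A (W ⧸ N) ((Ideal.Quotient.mkₐ k N).comp f) (Ideal.Quotient.mk_surjective.comp hf) I hI

/-- A geometrically reduced reduction is étale. -/
theorem etale_red (k W : Type u) [Field k] [CommRing W] [Algebra k W] [Module.Finite k W]
    (h : Algebra.IsGeometricallyReduced k (W ⧸ nilradical W)) : Algebra.Etale k (W ⧸ nilradical W) := by
  have h4 : Module.Finite k (W ⧸ nilradical W) :=
    Module.Finite.of_surjective (Ideal.Quotient.mkₐ k (nilradical W)).toLinearMap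
        Ideal.Quotient.mk_surjective
  exact etale_of_isGeometricallyReduced k (W ⧸ nilradical W)

/-- Second step. -/
theorem exists_etale (k₁ D : Type u) [Field k₁] [CommRing D] [IsDomain D] [Algebra k₁ D]
    [Algebra.Smooth k₁ D] (hdim : ringKrullDim D ≤ 1) (b : D) (hb : b ≠ 0) :
    ∃ (k₂ : Type u) (_ : Field k₂) (_ : Algebra k₁ k₂) (D₂ : Type u) (_ : CommRing D₂) (_ : Algebra k₂ D₂)
      (ψ : D →+* D₂), IsDomain D₂ ∧ FiniteDimensional k₁ k₂ ∧ Algebra.Smooth k₂ D₂ ∧ ψ.Finite ∧
      Function.Injective ψ ∧ (algebraMap k₂ D₂).comp (algebraMap k₁ k₂) = ψ.comp (algebraMap k₁ D) ∧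
      Algebra.Etale k₂ (D₂ ⧸ (Ideal.span {ψ b}).radical) := by
  have hft : Algebra.FiniteType k₁ D := inferInstance
  have hE : Module.Finite k₁ (D ⧸ (Ideal.span {b}).radical) :=
    finite_quotient k₁ D hdim b hb _ (Ideal.le_radical (Ideal.mem_span_singleton_self b))
  obtain ⟨k₂, _, _, hfin, hpi, hred⟩ := Groth.Agent.S2514.result (k := k₁) (D ⧸ (Ideal.span {b}).radical)
  have hsm : Algebra.Smooth k₂ (k₂ ⊗[k₁] D) := inferInstance
  have hr : IsReduced (k₂ ⊗[k₁] D) := Groth.Agent.Ega43.SmoothReduced.isReduced_of_smooth k₂ _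
  have hdom : IsDomain (k₂ ⊗[k₁] D) := by
    have h1 : IsDomain (K148.RedExt.Red k₁ k₂ D) := K148.RedExt.isDomain_red k₁ k₂ D
    have h2 : nilradical (k₂ ⊗[k₁] D) = ⊥ := nilradical_eq_zero _
    have h3 : (nilradical (k₂ ⊗[k₁] D)).IsPrime := (Ideal.Quotient.isDomain_iff_prime _).mp h1
    rw [h2] at h3
    exact IsDomain.of_bot_isPrime _
  refine ⟨k₂, inferInstance, inferInstance, k₂ ⊗[k₁] D, inferInstance, inferInstance,
    (Algebra.TensorProduct.includeRight : D →ₐ[k₁] k₂ ⊗[k₁] D).toRingHom, hdom, hfin, hsm, ?_, ?_, ?_, ?_⟩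
  · exact finite_includeRight k₁ k₂ D
  · exact Algebra.TensorProduct.includeRight_injective (algebraMap k₁ k₂).injective
  · ext c
    exact (Algebra.TensorProduct.includeRight : D →ₐ[k₁] k₂ ⊗[k₁] D).commutes c |>.symm
  · have hE₂ : Module.Finite k₂ (k₂ ⊗[k₁] (D ⧸ (Ideal.span {b}).radical)) := inferInstance
    have h5 := etale_red k₂ (k₂ ⊗[k₁] (D ⧸ (Ideal.span {b}).radical)) hred
    exact etale_quotient₂ k₂ (k₂ ⊗[k₁] D) (k₂ ⊗[k₁] (D ⧸ (Ideal.span {b}).radical))
      (Algebra.TensorProduct.map (AlgHom.id k₂ k₂) (Ideal.Quotient.mkₐ k₁ (Ideal.span {b}).radical))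
      (map_surjective k₁ k₂ D _ _ (Ideal.Quotient.mkₐ_surjective k₁ (Ideal.span {b}).radical))
      (nilradical (k₂ ⊗[k₁] (D ⧸ (Ideal.span {b}).radical))) h5 _ (ker_eq k₁ k₂ D b)

/-- The algebra: a finite extension `D` of a one-dimensional domain `A` of finite type over `k`, smooth over a
finite extension `k'` of `k`, with étale reduced zero locus of `a`. -/
theorem exists_smooth_etale (k A : Type u) [Field k] [CommRing A] [IsDomain A] [Algebra k A]
    [Algebra.FiniteType k A] (hdim : ringKrullDim A ≤ 1) (a : A) (ha : a ≠ 0) :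
    ∃ (k' : Type u) (_ : Field k') (_ : Algebra k k') (D : Type u) (_ : CommRing D) (_ : Algebra k' D)
      (φ : A →+* D), IsDomain D ∧ FiniteDimensional k k' ∧ Algebra.Smooth k' D ∧ φ.Finite ∧
      Function.Injective φ ∧ (algebraMap k' D).comp (algebraMap k k') = φ.comp (algebraMap k A) ∧
      Algebra.Etale k' (D ⧸ (Ideal.span {φ a}).radical) := by
  obtain ⟨k₁, _, _, D₁, _, _, φ, h1, h2, h3, h4, h5, h6⟩ := exists_smooth k A hdim
  have hdim₁ : ringKrullDim D₁ ≤ 1 := by
    refine le_trans ?_ hdim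
    let _ : Algebra A D₁ := φ.toAlgebra
    have : Module.Finite A D₁ := h4
    exact (Groth.Agent.FlatA.DimFin.ringKrullDim_eq_of_isIntegral_of_injective A D₁ h5).le
  obtain ⟨k₂, _, _, D₂, _, _, ψ, g1, g2, g3, g4, g5, g6, g7⟩ :=
    exists_etale k₁ D₁ hdim₁ (φ a) (fun h => ha (h5 (by rw [h, map_zero])))
  let _ : Algebra k k₂ := ((algebraMap k₁ k₂).comp (algebraMap k k₁)).toAlgebra
  have : IsScalarTower k k₁ k₂ := .of_algebraMap_eq' rfl
  refine ⟨k₂, inferInstance, inferInstance, D₂, inferInstance, inferInstance, ψ.comp φ, g1,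
    FiniteDimensional.trans k k₁ k₂, g3, g4.comp h4, g5.comp h5, ?_, g7⟩
  change (algebraMap k₂ D₂).comp ((algebraMap k₁ k₂).comp (algebraMap k k₁)) = _
  rw [← RingHom.comp_assoc, g6, RingHom.comp_assoc, h6, RingHom.comp_assoc]

end K602.FibAlg
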