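import Groth.Agent.EtAcyc.K602.FibModel
import Groth.Agent.EtAcyc.K153.TreeCurve
import Groth.Agent.S3259
import Groth.Agent.Lefpen.H370.SmoothRel
import Groth.Agent.Resolve.K616.Spread
import Groth.Agent.Cyc.K308.PBBasic
import Groth.Agent.Vancyc.H687.Geo
import Groth.Agent.Variety.K427.GenSmooth

/-!
# Spreading out smoothness of the generic fibre
-/

set_option autoImplicit false
universe u

open CategoryTheory CategoryTheory.Limits AlgebraicGeometry

namespace K602.FibGeo

open K153.TreeCurve

/-- An open subset containing the fibre over the generic point contains the inverse image of a nonempty open. -/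
theorem exists_open_le {X Y : Scheme.{u}} [IrreducibleSpace Y] (f : X ⟶ Y) [QuasiCompact f] (L : X.Opens)
    (h : ∀ x : X, f x = genericPoint Y → x ∈ L) :
    ∃ V : Y.Opens, (V : Set Y).Nonempty ∧ f ⁻¹ᵁ V ≤ L := by
  let Z : TopologicalSpace.Closeds X := ⟨(L : Set X)ᶜ, L.isOpen.isClosed_compl⟩
  let I := Scheme.IdealSheafData.vanishingIdeal Z
  have hrange : Set.range I.subschemeι = (Z : Set X) := by
    rw [Scheme.IdealSheafData.range_subschemeι]
    rw [Scheme.IdealSheafData.coe_support_vanishingIdeal]
  obtain ⟨V, hV, hd⟩ := K427.GenSmooth.exists_open_disjoint_range (I.subschemeι ≫ f) (by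
    rintro ⟨z, hz⟩
    have hz' : I.subschemeι z ∈ (Z : Set X) := hrange ▸ Set.mem_range_self z
    refine hz' ?_
    have e : f (I.subschemeι z) = genericPoint Y := by simpa using hz
    exact h _ e)
  refine ⟨V, hV, ?_⟩
  intro x hx
  by_contra hx'
  have hx'' : x ∈ Set.range I.subschemeι := by
    rw [hrange]
    exact hx'
  obtain ⟨z, rfl⟩ := hx''
  exact Set.disjoint_left.mp hd hx ⟨z, by simp⟩

/-- The pull-back square of the generic fibre. -/
theorem isPullback_generic (A Q k E : Type u) [CommRing A] [CommRing Q] [CommRing k] [CommRing E]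
    [Algebra A Q] [Algebra A k] [IsFractionRing A k] [Algebra Q E] [Algebra k E]
    (hcomm : (algebraMap k E).comp (algebraMap A k) = (algebraMap Q E).comp (algebraMap A Q))
    [IsLocalization ((nonZeroDivisors A).map (algebraMap A Q)) E] :
    IsPullback (Spec.map (CommRingCat.ofHom (algebraMap Q E))) (Spec.map (CommRingCat.ofHom (algebraMap k E)))
      (Spec.map (CommRingCat.ofHom (algebraMap A Q))) (Spec.map (CommRingCat.ofHom (algebraMap A k))) := by
  let _ : Algebra A E := ((algebraMap k E).comp (algebraMap A k)).toAlgebra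
  have _ : IsScalarTower A k E := .of_algebraMap_eq' rfl
  have _ : IsScalarTower A Q E := .of_algebraMap_eq' hcomm
  have hpo : IsPushout (CommRingCat.ofHom (algebraMap A Q)) (CommRingCat.ofHom (algebraMap A k))
      (CommRingCat.ofHom (algebraMap Q E)) (CommRingCat.ofHom (algebraMap k E)) :=
    CommRingCat.isPushout_of_isLocalization _ _ (by
      rw [← IsScalarTower.algebraMap_eq A k E, ← IsScalarTower.algebraMap_eq A Q E])
      (nonZeroDivisors A)
  exact isPullback_SpecMap_of_isPushout _ _ _ _ hpo

/-- Spreading out étaleness of the generic fibre. -/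
theorem exists_open_etale (A Q k E : Type u) [CommRing A] [IsDomain A] [IsNoetherianRing A] [CommRing Q] [Field k]
    [CommRing E] [Algebra A Q] [Algebra.FiniteType A Q] [Algebra A k] [IsFractionRing A k] [Algebra Q E]
    [Algebra k E] (hE : Algebra.Etale k E)
    (hcomm : (algebraMap k E).comp (algebraMap A k) = (algebraMap Q E).comp (algebraMap A Q))
    [IsLocalization ((nonZeroDivisors A).map (algebraMap A Q)) E] :
    ∃ V : (Spec (CommRingCat.of A)).Opens, (V : Set (Spec (CommRingCat.of A))).Nonempty ∧
      ∀ U ≤ V, Etale (Spec.map (CommRingCat.ofHom (algebraMap A Q)) ∣_ U) := by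
  let _ : Algebra A E := ((algebraMap k E).comp (algebraMap A k)).toAlgebra
  have _ : IsScalarTower A k E := .of_algebraMap_eq' rfl
  have _ : IsScalarTower A Q E := .of_algebraMap_eq' hcomm
  have _ : Algebra.FinitePresentation A Q := Algebra.FinitePresentation.of_finiteType.mp inferInstance
  have _ : Algebra.FormallyEtale k E := inferInstance
  obtain ⟨V, hV, hV'⟩ := exists_open_le (Spec.map (CommRingCat.ofHom (algebraMap A Q)))
    (Pi1X.etaleLocus (Spec.map (CommRingCat.ofHom (algebraMap A Q)))) (by
      intro q hq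
      rw [genericPoint_eq_bot_of_affine] at hq
      rw [Groth.Agent.Etdl.H426.ChartLocus.mem_etaleLocus_specMap']
      exact K616.SpreadAlg.isEtaleAt A k E Q q hq)
  refine ⟨V, hV, fun U hU => ?_⟩
  apply K616.Spread.etale_restrict
  exact le_trans (Scheme.Hom.preimage_mono _ hU) hV'

/-- Spreading out smoothness of the generic fibre. -/
theorem exists_open_smooth (A Q k E : Type u) [CommRing A] [IsDomain A] [IsNoetherianRing A] [CommRing Q]
    [IsDomain Q] [Field k] [CommRing E] [IsDomain E] [Algebra A Q] [Algebra.FiniteType A Q] [Algebra A k]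
    [IsFractionRing A k] [Algebra Q E] [Algebra k E] (hE : Algebra.Smooth k E)
    (hcomm : (algebraMap k E).comp (algebraMap A k) = (algebraMap Q E).comp (algebraMap A Q))
    [IsLocalization ((nonZeroDivisors A).map (algebraMap A Q)) E] (n : ℕ)
    (hdim : ringKrullDim E = (n : WithBot ℕ∞)) :
    ∃ V : (Spec (CommRingCat.of A)).Opens, (V : Set (Spec (CommRingCat.of A))).Nonempty ∧
      ∀ U ≤ V, Smooth (Spec.map (CommRingCat.ofHom (algebraMap A Q)) ∣_ U) ∧
        Cyc.HasRelDim (Spec.map (CommRingCat.ofHom (algebraMap A Q)) ∣_ U) n := by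
  have _ : Algebra.FinitePresentation A Q := Algebra.FinitePresentation.of_finiteType.mp inferInstance
  have hlfp : LocallyOfFinitePresentation (Spec.map (CommRingCat.ofHom (algebraMap A Q))) := by
    rw [HasRingHomProperty.Spec_iff (P := @LocallyOfFinitePresentation)]
    exact RingHom.finitePresentation_algebraMap.mpr inferInstance
  have H := isPullback_generic A Q k E hcomm
  have hflat : Flat (Spec.map (CommRingCat.ofHom (algebraMap A k))) := by
    rw [Flat.SpecMap_iff]
    exact RingHom.flat_algebraMap_iff.mpr (IsLocalization.flat k (nonZeroDivisors A))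
  have hmono : Mono (Spec.map (CommRingCat.ofHom (algebraMap A k))) := by
    have h2 : IsPreimmersion (Spec.map (CommRingCat.ofHom (algebraMap A k))) :=
      IsPreimmersion.of_isLocalization (nonZeroDivisors A)
    infer_instance
  have hsm : Smooth (Spec.map (CommRingCat.ofHom (algebraMap k E))) := by
    rw [HasRingHomProperty.Spec_iff (P := @Smooth)]
    exact RingHom.smooth_algebraMap.mpr hE
  have hsm' : Smooth (𝟙 (Spec (CommRingCat.of E)) ≫ Spec.map (CommRingCat.ofHom (algebraMap k E))) := by
    rwa [Category.id_comp]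
  have hrel : SmoothOfRelativeDimension n (Spec.map (CommRingCat.ofHom (algebraMap k E))) := by
    have h1 := Groth.Agent.Vancyc.H687.Geo.smoothOfRelativeDimension
      (Spec.map (CommRingCat.ofHom (algebraMap k E))) (𝟙 _) n
      (by rw [← hdim]; exact PrimeSpectrum.topologicalKrullDim_eq_ringKrullDim E)
    rwa [Category.id_comp] at h1
  have hgen : ∀ x : Spec (CommRingCat.of Q), Spec.map (CommRingCat.ofHom (algebraMap A Q)) x =
      genericPoint (Spec (CommRingCat.of A)) →
      x ∈ (Spec.map (CommRingCat.ofHom (algebraMap A Q))).smoothLocus := by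
    intro x hx
    have h1 : Spec.map (CommRingCat.ofHom (algebraMap A k)) (⊥ : PrimeSpectrum k) =
        genericPoint (Spec (CommRingCat.of A)) := by
      rw [genericPoint_eq_bot_of_affine]
      apply PrimeSpectrum.ext
      change Ideal.comap (algebraMap A k) ⊥ = ⊥
      rw [← RingHom.ker_eq_comap_bot]
      exact (RingHom.injective_iff_ker_eq_bot _).mp (IsFractionRing.injective A k)
    obtain ⟨y, hy, -⟩ := Scheme.exists_preimage_of_isPullback H x (⊥ : PrimeSpectrum k) (hx.trans h1.symm)
    rw [← hy]
    exact Groth.Agent.S3259.mem_smoothLocus_of_isPullback H y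
  obtain ⟨V, hV, hV'⟩ := exists_open_le (Spec.map (CommRingCat.ofHom (algebraMap A Q))) _ hgen
  have hrel' : SmoothOfRelativeDimension n ((Spec.map (CommRingCat.ofHom (algebraMap A Q))).smoothLocus.ι ≫
      Spec.map (CommRingCat.ofHom (algebraMap A Q))) :=
    Groth.Agent.Lefpen.H370.SmoothRel.smoothOfRelativeDimension_smoothLocus _ H n hrel
      (⊥ : PrimeSpectrum E) (Groth.Agent.S3259.mem_smoothLocus_of_isPullback H _)
  refine ⟨V, hV, fun U hU => ?_⟩
  have h1 : SmoothOfRelativeDimension n (Spec.map (CommRingCat.ofHom (algebraMap A Q)) ∣_ U) :=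
    Groth.Agent.Lefpen.H370.SmoothRel.of_forall_smoothLocus
      (isPullback_morphismRestrict (Spec.map (CommRingCat.ofHom (algebraMap A Q))) U).flip n hrel'
      (fun z => hV' (Scheme.Hom.preimage_mono _ hU z.2))
  exact ⟨SmoothOfRelativeDimension.smooth n _, K308.PB.hasRelDim_of_smooth _⟩

end K602.FibGeo
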