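import Groth.Agent.EtAcyc.K602.FibAlg
import Mathlib.RingTheory.Localization.Integral
import Mathlib.RingTheory.Localization.Ideal
import Mathlib.RingTheory.Localization.BaseChange

/-!
# Finite models of the generic fibre
-/

set_option autoImplicit false
universe u

open scoped TensorProduct

namespace K602.FibModel

/-- A finite model over `R`, containing given integral elements, of a finite algebra over a localization of `R`. -/
theorem exists_finite_model (R A D : Type u) [CommRing R] (M : Submonoid R) [CommRing A] [Algebra R A]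
    [IsLocalization M A] [CommRing D] [Algebra A D] [Algebra R D] [IsScalarTower R A D] [Module.Finite A D]
    (t : Set D) (ht : t.Finite) (ht' : ∀ x ∈ t, IsIntegral R x) :
    ∃ C : Subalgebra R D, t ⊆ C ∧ Module.Finite R C ∧ IsLocalization (M.map (algebraMap R C)) D := by
  classical
  obtain ⟨s, hs⟩ := Module.Finite.fg_top (R := A) (M := D)
  choose m hm using fun a : D => IsIntegral.exists_multiple_integral_of_isLocalization M (Rₘ := A) a
    (Algebra.IsIntegral.isIntegral a)
  let t' : Finset D := s.image (fun a => m a • a) ∪ ht.toFinset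
  let C := Algebra.adjoin R (t' : Set D)
  have hC : Module.Finite R C := by
    refine Module.Finite.iff_fg.mpr (fg_adjoin_of_finite t'.finite_toSet ?_)
    intro x hx
    rcases Finset.mem_union.mp hx with hx | hx
    · obtain ⟨a, -, rfl⟩ := Finset.mem_image.mp hx
      exact hm a
    · exact ht' x (ht.mem_toFinset.mp hx)
  refine ⟨C, ?_, hC, ?_, ?_, ?_⟩
  · intro x hx
    exact Algebra.subset_adjoin (Finset.mem_coe.mpr (Finset.mem_union.mpr (Or.inr (ht.mem_toFinset.mpr hx))))
  · rintro ⟨y, r, hr, rfl⟩
    have h1 : IsUnit (algebraMap R A r) := IsLocalization.map_units A ⟨r, hr⟩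
    have h2 := h1.map (algebraMap A D)
    rw [← IsScalarTower.algebraMap_apply] at h2
    exact h2
  · have key : ∀ a : D, ∃ d ∈ M, d • a ∈ C := by
      intro a
      have ha : a ∈ Submodule.span A (s : Set D) := by rw [hs]; trivial
      induction ha using Submodule.span_induction with
      | mem x hx =>
        refine ⟨m x, (m x).2, Algebra.subset_adjoin (Finset.mem_coe.mpr (Finset.mem_union.mpr (Or.inl ?_)))⟩
        exact Finset.mem_image_of_mem _ hx
      | zero => exact ⟨1, one_mem _, by rw [smul_zero]; exact zero_mem _⟩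
      | add x y _ _ hx hy =>
        obtain ⟨d, hd, hd'⟩ := hx
        obtain ⟨e, he, he'⟩ := hy
        refine ⟨d * e, mul_mem hd he, ?_⟩
        rw [smul_add]
        apply add_mem
        · rw [mul_comm, mul_smul]; exact C.smul_mem hd' e
        · rw [mul_smul]; exact C.smul_mem he' d
      | smul c x _ hx =>
        obtain ⟨d, hd, hd'⟩ := hx
        obtain ⟨⟨r, e⟩, hre⟩ := IsLocalization.surj M c
        refine ⟨e * d, mul_mem e.2 hd, ?_⟩
        have h1 : ((e : R) * d) • c • x = r • d • x := by
          have h2 : (e : R) • c = algebraMap R A r := by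
            rw [Algebra.smul_def, mul_comm]; exact hre
          rw [mul_smul, smul_comm d c x, ← smul_assoc, h2, algebraMap_smul]
        rw [h1]
        exact C.smul_mem hd' r
    intro a
    obtain ⟨d, hd, hda⟩ := key a
    refine ⟨⟨⟨d • a, hda⟩, ⟨algebraMap R _ d, d, hd, rfl⟩⟩, ?_⟩
    change a * algebraMap R D d = d • a
    rw [Algebra.smul_def, mul_comm]
  · intro x y hxy
    exact ⟨1, by rw [OneMemClass.coe_one, one_mul, one_mul]; exact Subtype.ext hxy⟩

/-- A localization of a domain, with nonzero denominators, which is a field is the field of fractions. -/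
theorem isFractionRing_of_isLocalization (A k : Type u) [CommRing A] [IsDomain A] [Field k] [Algebra A k]
    (M : Submonoid A) [IsLocalization M k] (hinj : Function.Injective (algebraMap A k)) :
    IsFractionRing A k := by
  refine IsLocalization.of_le M (nonZeroDivisors A) ?_ ?_
  · intro r hr
    refine mem_nonZeroDivisors_of_ne_zero ?_
    rintro rfl
    have h1 := IsLocalization.map_units k (⟨0, hr⟩ : M)
    rw [map_zero] at h1
    exact not_isUnit_zero h1
  · intro r hr
    refine IsUnit.mk0 _ ?_
    intro h
    exact nonZeroDivisors.ne_zero hr (hinj (by rw [h, map_zero]))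

/-- Localization of a reduced closed subscheme. -/
theorem isLocalization_quotient (C D : Type u) [CommRing C] [CommRing D] [Algebra C D] (M : Submonoid C)
    [IsLocalization M D] (a : C) :
    letI := (Ideal.quotientMap (Ideal.span {algebraMap C D a}).radical (algebraMap C D)
      (show (Ideal.span {a}).radical ≤ (Ideal.span {algebraMap C D a}).radical.comap (algebraMap C D) by
        rw [← Set.image_singleton, ← Ideal.map_span, ← IsLocalization.map_radical M D]
        exact Ideal.le_comap_map)).toAlgebra
    IsLocalization (M.map (Ideal.Quotient.mk (Ideal.span {a}).radical))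
      (D ⧸ (Ideal.span {algebraMap C D a}).radical) := by
  let _ := (Ideal.quotientMap (Ideal.span {algebraMap C D a}).radical (algebraMap C D)
      (show (Ideal.span {a}).radical ≤ (Ideal.span {algebraMap C D a}).radical.comap (algebraMap C D) by
        rw [← Set.image_singleton, ← Ideal.map_span, ← IsLocalization.map_radical M D]
        exact Ideal.le_comap_map)).toAlgebra
  refine IsLocalization.of_surjective M D (Ideal.Quotient.mk (Ideal.span {a}).radical)
    Ideal.Quotient.mk_surjective (Ideal.Quotient.mk _) Ideal.Quotient.mk_surjective rfl ?_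
  rw [Ideal.mk_ker, Ideal.mk_ker, IsLocalization.map_radical M D, Ideal.map_span, Set.image_singleton]

/-- Models of the smooth curve of `K602.FibAlg.exists_smooth_etale` and of the étale divisor over a finite extension
`A₁` of `A₀`. -/
theorem exists_model (A₀ R k A : Type u) [CommRing A₀] [IsDomain A₀] [CommRing R] [IsDomain R]
    [Algebra A₀ R] [Field k] [Algebra A₀ k] [IsFractionRing A₀ k] [CommRing A] [IsDomain A] [Algebra k A]
    [Algebra R A] [Algebra A₀ A] [IsScalarTower A₀ k A] [IsScalarTower A₀ R A]
    [IsLocalization ((nonZeroDivisors A₀).map (algebraMap A₀ R)) A] [Algebra.FiniteType k A]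
    (hinj : Function.Injective (algebraMap A₀ R)) (hdim : ringKrullDim A ≤ 1) (a : R) (ha : a ≠ 0) :
    ∃ (A₁ R₁ k' D : Type u) (_ : CommRing A₁) (_ : CommRing R₁) (_ : Field k') (_ : CommRing D)
      (_ : Algebra A₀ A₁) (_ : Algebra R R₁) (_ : Algebra A₁ R₁) (_ : Algebra A₁ k') (_ : Algebra R₁ D)
      (_ : Algebra k' D), IsDomain A₁ ∧ IsDomain R₁ ∧ IsDomain D ∧ Module.Finite A₀ A₁ ∧
      Function.Injective (algebraMap A₀ A₁) ∧ Module.Finite R R₁ ∧ Function.Injective (algebraMap R R₁) ∧
      Function.Injective (algebraMap A₁ R₁) ∧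
      (algebraMap A₁ R₁).comp (algebraMap A₀ A₁) = (algebraMap R R₁).comp (algebraMap A₀ R) ∧
      (algebraMap k' D).comp (algebraMap A₁ k') = (algebraMap R₁ D).comp (algebraMap A₁ R₁) ∧
      IsFractionRing A₁ k' ∧ IsLocalization ((nonZeroDivisors A₁).map (algebraMap A₁ R₁)) D ∧
      Algebra.Smooth k' D ∧
      Algebra.Etale k' (D ⧸ (Ideal.span {algebraMap R₁ D (algebraMap R R₁ a)}).radical) ∧
      ringKrullDim D = ringKrullDim A := by
  have hle : (nonZeroDivisors A₀).map (algebraMap A₀ R) ≤ nonZeroDivisors R := by
    rintro _ ⟨r, hr, rfl⟩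
    refine mem_nonZeroDivisors_of_ne_zero fun h => ?_
    exact nonZeroDivisors.ne_zero hr (hinj (by rw [h, map_zero]))
  have hRA : Function.Injective (algebraMap R A) := IsLocalization.injective A hle
  obtain ⟨k', _, _, D, _, _, φ, h1, h2, h3, h4, h5, h6, h7⟩ :=
    FibAlg.exists_smooth_etale k A hdim (algebraMap R A a) (fun h => ha (hRA (by rw [h, map_zero])))
  let _ : Algebra A₀ k' := ((algebraMap k k').comp (algebraMap A₀ k)).toAlgebra
  have _ : IsScalarTower A₀ k k' := .of_algebraMap_eq' rfl
  obtain ⟨C₀, -, hC₀, hC₀l⟩ := exists_finite_model A₀ k k' (nonZeroDivisors A₀) ∅ Set.finite_empty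
    (fun x hx => absurd hx (Set.notMem_empty x))
  let _ : Algebra A D := φ.toAlgebra
  let _ : Algebra R D := (φ.comp (algebraMap R A)).toAlgebra
  let _ : Algebra A₀ D := (φ.comp (algebraMap A₀ A)).toAlgebra
  have _ : IsScalarTower R A D := .of_algebraMap_eq' rfl
  have _ : IsScalarTower A₀ R D := .of_algebraMap_eq' (by
    change φ.comp (algebraMap A₀ A) = (φ.comp (algebraMap R A)).comp (algebraMap A₀ R)
    rw [IsScalarTower.algebraMap_eq A₀ R A, RingHom.comp_assoc])
  have hk'D : (algebraMap k' D).comp (algebraMap A₀ k') = algebraMap A₀ D := by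
    change (algebraMap k' D).comp ((algebraMap k k').comp (algebraMap A₀ k)) = φ.comp (algebraMap A₀ A)
    rw [← RingHom.comp_assoc, h6, RingHom.comp_assoc, ← IsScalarTower.algebraMap_eq]
  have _ : IsScalarTower A₀ k' D := .of_algebraMap_eq' hk'D.symm
  have hfin : Module.Finite A D := h4
  obtain ⟨s₀, hs₀⟩ := hC₀.fg_top
  let t : Set D := (fun x : C₀ => algebraMap k' D x) '' (s₀ : Set C₀)
  obtain ⟨C, htC, hC, hCl⟩ := exists_finite_model R A D ((nonZeroDivisors A₀).map (algebraMap A₀ R)) t
    (s₀.finite_toSet.image _) (by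
      rintro _ ⟨x, -, rfl⟩
      have e1 : IsIntegral A₀ (x : k') := (Algebra.IsIntegral.isIntegral (R := A₀) x).map C₀.val
      have e2 : IsIntegral A₀ (algebraMap k' D x) := e1.algebraMap
      exact e2.tower_top)
  have hmem : ∀ x : C₀, algebraMap k' D x ∈ C := by
    intro x
    have hx : x ∈ Submodule.span A₀ (s₀ : Set C₀) := by rw [hs₀]; trivial
    induction hx using Submodule.span_induction with
    | mem x hx => exact htC ⟨x, hx, rfl⟩
    | zero => rw [ZeroMemClass.coe_zero, map_zero]; exact zero_mem _
    | add x y _ _ hx hy => rw [AddMemClass.coe_add, map_add]; exact add_mem hx hy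
    | smul c x _ hx =>
      have e1 : algebraMap k' D ((c • x : C₀) : k') = algebraMap R D (algebraMap A₀ R c) * algebraMap k' D x := by
        rw [← IsScalarTower.algebraMap_apply A₀ R D, IsScalarTower.algebraMap_apply A₀ k' D, ← map_mul]
        congr 1
      rw [e1]
      exact mul_mem (C.algebraMap_mem _) hx
  let ρ : C₀ →+* C := ((algebraMap k' D).comp C₀.val.toRingHom).codRestrict C hmem
  let _ : Algebra C₀ C := ρ.toAlgebra
  have hA₀k : Function.Injective (algebraMap A₀ k') :=
    (algebraMap k k').injective.comp (IsFractionRing.injective A₀ k)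
  have hfr : IsFractionRing C₀ k' :=
    isFractionRing_of_isLocalization C₀ k' ((nonZeroDivisors A₀).map (algebraMap A₀ C₀)) Subtype.val_injective
  have hD' : (algebraMap k' D).comp (algebraMap C₀ k') = (algebraMap C D).comp (algebraMap C₀ C) := rfl
  have hinjA : Function.Injective (algebraMap A₀ C₀) := by
    intro x y hxy
    exact hA₀k (congrArg (Subtype.val) hxy)
  refine ⟨C₀, C, k', D, inferInstance, inferInstance, inferInstance, inferInstance, inferInstance,
    inferInstance, inferInstance, inferInstance, inferInstance, inferInstance, inferInstance, inferInstance,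
    h1, hC₀, hinjA, hC, ?_, ?_, ?_, hD', hfr, ?_, h3, h7, ?_⟩
  · intro x y hxy
    exact hRA (h5 (congrArg Subtype.val hxy))
  · intro x y hxy
    exact Subtype.ext ((algebraMap k' D).injective (congrArg Subtype.val hxy))
  · ext x
    change algebraMap k' D (algebraMap A₀ k' x) = algebraMap R D (algebraMap A₀ R x)
    rw [← IsScalarTower.algebraMap_apply A₀ R D, ← IsScalarTower.algebraMap_apply A₀ k' D]
  · refine IsLocalization.of_le (((nonZeroDivisors A₀).map (algebraMap A₀ R)).map (algebraMap R C)) _ ?_ ?_
    · rintro _ ⟨_, ⟨r, hr, rfl⟩, rfl⟩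
      refine ⟨algebraMap A₀ C₀ r, mem_nonZeroDivisors_of_ne_zero fun h => ?_, ?_⟩
      · exact nonZeroDivisors.ne_zero hr (hinjA (by rw [h, map_zero]))
      · apply Subtype.ext
        change algebraMap k' D (algebraMap A₀ k' r) = algebraMap R D (algebraMap A₀ R r)
        rw [← IsScalarTower.algebraMap_apply A₀ R D, ← IsScalarTower.algebraMap_apply A₀ k' D]
    · rintro _ ⟨r, hr, rfl⟩
      have e1 : IsUnit (algebraMap C₀ k' r) := IsLocalization.map_units k' (⟨r, hr⟩ : nonZeroDivisors C₀)
      exact e1.map (algebraMap k' D)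
  · exact Groth.Agent.FlatA.DimFin.ringKrullDim_eq_of_isIntegral_of_injective A D h5

end K602.FibModel
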